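import Mathlib
import Cfsg.Agent.Lib.PhanU.Torus

/-!
# Three subgroups `SU₂(q)` of `SU₄(q)` with the standard relations, `q ≤ 3`
-/

set_option autoImplicit false

namespace CfsgLib.PhanU

open Cfsg CfsgLib.Unitary Matrix

/-- Simple reflections on weights. -/
def rf {A : Type*} [AddCommGroup A] (i : Fin 3) (k : A × A × A) : A × A × A :=
  ![(-k.1, k.1 + k.2.1, k.2.2), (k.2.1 + k.1, -k.2.1, k.2.1 + k.2.2), (k.1, k.2.2 + k.2.1, -k.2.2)] i

/-- Reduced words. -/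
def wds : List (List (Fin 3)) :=
  [[], [0], [1], [2], [0, 1], [0, 2], [1, 0], [1, 2], [2, 1], [0, 1, 0], [0, 1, 2], [0, 2, 1], [1,
    0, 2], [1, 2, 1], [2, 1, 0], [0, 1, 0, 2], [0, 1, 2, 1], [0, 2, 1, 0], [1, 0, 2, 1], [1, 2, 1,
    0], [0, 1, 0, 2, 1], [0, 1, 2, 1, 0], [1, 0, 2, 1, 0], [0, 1, 0, 2, 1, 0]]

theorem orbit_dec {q : ℕ} (hq : q = 2 ∨ q = 3) (k : ZMod (q + 1) × ZMod (q + 1) × ZMod (q + 1))
    (h : k.1 + k.1 ≠ 0) : (∃ w ∈ wds, w.foldr rf k = (1, 0, 0) ∨ w.foldr rf k = (-1, 0, 0)) ∨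
      4 < (wds.map (·.foldr rf k)).toFinset.card := by
  rcases hq with rfl | rfl <;> revert k <;> decide +kernel

variable {F : Type*} [Field F] {q n : ℕ} [Fintype F] [hF : Fact (Fintype.card F = q ^ 2)] {a : F}
  (ha : IsPrimitiveRoot a (q + 1))

/-- A generator of the diagonal subgroup. -/
def dd : SU 2 F q := mk2 a 0 (by simp [← pow_succ', ha.pow_eq_one])

/-- The Weyl element. -/
def ww : SU 2 F q := mk2 0 1 (by simp)

/-- The diagonal automorphism induced by the neighbouring torus. -/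
def tw : SU 2 F q →* SU 2 F q := dg ![1, a] (by simp [← pow_succ', ha.pow_eq_one])

theorem tw_dd : tw ha (dd ha) = dd ha := su2_ext (by simp [tw, mat_dg]) (by simp [tw, mat_dg, dd, mat_mk2])

theorem tw_ww : tw ha ww = ww * dd ha :=
  su2_ext (by simp [tw, mat_dg, dd, ww, mat_mk2, mat_mul, zero_pow_q hF.out])
    (by simp [tw, mat_dg, dd, ww, mat_mk2, mat_mul])

theorem dd_ww : dd ha * ww * dd ha = ww :=
  su2_ext (by simp [dd, ww, mat_mk2, mat_mul, zero_pow_q hF.out])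
    (by simp [dd, ww, mat_mk2, mat_mul, zero_pow_q hF.out, ← pow_succ', ha.pow_eq_one])

theorem tw_tw (x : SU 2 F q) : dd ha * tw ha (tw ha x) = x * dd ha := by
  have h : a * a ^ q = 1 := by rw [← pow_succ', ha.pow_eq_one]
  refine su2_ext ?_ ?_ <;> simp [tw, mat_dg, dd, mat_mk2, mat_mul, mul_apply, zero_pow_q hF.out]
  · ring
  · linear_combination mat x 0 1 * a ^ q * h

theorem mat_dd : mat (dd ha) = diagonal ![a, a ^ q] := by
  ext i j
  fin_cases i <;> fin_cases j <;> simp [dd, mat_mk2, zero_pow_q hF.out]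

theorem dd_pow : dd ha ^ (q + 1) = 1 := by
  refine mat_ext (show mat _ ^ _ = 1 from ?_)
  rw [mat_dd, diagonal_pow, ← diagonal_one]
  congr 1
  ext i
  fin_cases i <;> simp [pow_right_comm a q, ha.pow_eq_one]

theorem low_dd (x : SU 2 F q) :
    blk 2 3 1 (dd ha) * blk 2 3 0 x = blk 2 3 0 (tw ha x) * blk 2 3 1 (dd ha) := by
  have h : a ^ q * a = 1 := by rw [← pow_succ, ha.pow_eq_one]
  refine mat_ext (Matrix.ext fun i j => ?_)
  fin_cases i <;> fin_cases j <;> simp [mat_mul, mat_blk0, mat_blk1, mat_dd, tw, mat_dg, mul_apply,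
    Fin.sum_univ_three, mul_assoc, h, mul_comm a]

theorem up_dd (x : SU 2 F q) :
    blk 2 3 0 (dd ha) * blk 2 3 1 x = blk 2 3 1 (tw ha x) * blk 2 3 0 (dd ha) := by
  have h : a ^ q * a = 1 := by rw [← pow_succ, ha.pow_eq_one]
  refine mat_ext (Matrix.ext fun i j => ?_)
  fin_cases i <;> fin_cases j <;> simp [mat_mul, mat_blk0, mat_blk1, mat_dd, tw, mat_dg, mul_apply,
    Fin.sum_univ_three, mul_assoc, h, mul_comm a, mul_comm (a ^ q)]

/-- Neighbouring subgroups. -/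
def Nb (c c' : SU 2 F q →* SU n F q) : Prop := (∀ x, c' (dd ha) * c x = c (tw ha x) * c' (dd ha)) ∧
  ∀ x, c (dd ha) * c' x = c' (tw ha x) * c (dd ha)

variable {ha} {c c' : SU 2 F q →* SU n F q}

theorem Nb.symm (h : Nb ha c c') : Nb ha c' c := ⟨h.2, h.1⟩

theorem Nb.comm (h : Nb ha c c') : Commute (c (dd ha)) (c' (dd ha)) := by
  simpa [tw_dd, commute_iff_eq] using h.2 (dd ha)

theorem Nb.comm_sq (h : Nb ha c c') (x : SU 2 F q) :
    c x * (c (dd ha) * c' (dd ha) * c' (dd ha)) = c (dd ha) * c' (dd ha) * c' (dd ha) * c x := by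
  simp only [mul_assoc]
  rw [h.1, ← mul_assoc (c' _) (c _), h.1, mul_assoc, ← mul_assoc (c _) (c (tw ha _)), ← map_mul c, tw_tw,
    map_mul, mul_assoc]

variable {χ : AddChar (ZMod (q + 1)) F} {k l : ZMod (q + 1)} {v : Fin n → F}

theorem wt_self (h : c (dd ha) • v = χ k • v) : c (dd ha) • c ww • v = χ (-k) • c ww • v := by
  have : c (dd ha) • c ww • c (dd ha) • v = c ww • v := by
    rw [← mul_smul, ← mul_smul, ← map_mul, ← map_mul, dd_ww]
  rw [h, su_smul_smul, su_smul_smul] at this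
  conv_rhs => rw [← this, smul_smul (χ _), ← χ.map_add_eq_mul, neg_add_cancel, χ.map_zero_eq_one, one_smul]

theorem Nb.wt (e : Nb ha c c') (h : c (dd ha) • v = χ k • v) (h' : c' (dd ha) • v = χ l • v) :
    c' (dd ha) • c ww • v = χ (k + l) • c ww • v := by
  rw [← mul_smul, e.1, tw_ww, map_mul, mul_smul, mul_smul, h', su_smul_smul, h, smul_smul, su_smul_smul,
    χ.map_add_eq_mul, mul_comm]

theorem wt_comm (e : ∀ x y, c x * c' y = c' y * c x) (h : c' (dd ha) • v = χ k • v) :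
    c' (dd ha) • c ww • v = χ k • c ww • v := by
  rw [← mul_smul, ← e, mul_smul, h, su_smul_smul]

theorem diag_of_eig {D : SU 4 F q} {x y z u : F} (h0 : D • (ee 0 : Fin 4 → F) = x • ee 0)
    (h1 : D • (ee 1 : Fin 4 → F) = y • ee 1) (h2 : D • (ee 2 : Fin 4 → F) = z • ee 2)
    (h : x * y * z * u = 1) : mat D = diagonal ![x, y, z, u] := by
  have h' : x * y * z ≠ 0 := left_ne_zero_of_mul_eq_one h
  have k : ∀ (i : Fin 4) (c : F), D • (ee i : Fin 4 → F) = c • ee i → c ≠ 0 → i ≠ 3 → mat D i 3 = 0 :=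
    fun i c hc h0 hi => by
      have := herm_su_smul D (ee 3) (ee i)
      rw [hc, herm_smul_right, herm_ee, ee_perp hi.symm, ← mat_apply] at this
      simpa [pow_q_eq_zero_iff hF.out, h0] using this
  simp only [mul_ne_zero_iff] at h'
  have e : mat D = diagonal ![x, y, z, mat D 3 3] := by
    ext i j
    fin_cases j
    · rw [mat_apply]; erw [h0]; fin_cases i <;> simp
    · rw [mat_apply]; erw [h1]; fin_cases i <;> simp
    · rw [mat_apply]; erw [h2]; fin_cases i <;> simp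
    · fin_cases i <;> simp [k 0 x h0 h'.1.1, k 1 y h1 h'.1.2, k 2 z h2 h'.2]
  have hd := mat_det D
  rw [e, det_diagonal, Fin.prod_univ_four] at hd
  rw [e, show mat D 3 3 = u from mul_left_cancel₀ (left_ne_zero_of_mul_eq_one h) (hd.trans h.symm)]

theorem exists_frame4 (hq : q = 2 ∨ q = 3) {c₀ c₁ c₂ : SU 2 F q →* SU 4 F q} (n1 : Nb ha c₀ c₁)
    (n2 : Nb ha c₁ c₂) (hc : ∀ x y, c₀ x * c₂ y = c₂ y * c₀ x) (h0 : Function.Injective c₀) :
    ∃ (g : SU 4 F q) (b : F), b * b ^ q = 1 ∧ b * b ≠ 1 ∧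
      mat (g⁻¹ * c₀ (dd ha) * g) = diagonal ![b, b ^ q, 1, 1] ∧
      mat (g⁻¹ * c₁ (dd ha) * g) = diagonal ![1, b, b ^ q, 1] ∧
      mat (g⁻¹ * c₂ (dd ha) * g) = diagonal ![1, 1, b, b ^ q] := by
  let χ := AddChar.zmodChar (q + 1) ha.pow_eq_one
  have hp : ∀ k, χ k ^ (q + 1) = 1 := fun k => by
    rw [AddChar.zmodChar_apply, pow_right_comm, ha.pow_eq_one, one_pow]
  have hi : Function.Injective χ := fun k l e =>
    ZMod.val_injective _ (ha.pow_inj (ZMod.val_lt k) (ZMod.val_lt l) e)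
  let E := fun (k : ZMod (q + 1) × ZMod (q + 1) × ZMod (q + 1)) (v : Fin 4 → F) => Un q v ∧
    c₀ (dd ha) • v = χ k.1 • v ∧ c₁ (dd ha) • v = χ k.2.1 • v ∧ c₂ (dd ha) • v = χ k.2.2 • v
  have s0 : ∀ k v, E k v → E (rf 0 k) (c₀ ww • v) := fun k v h =>
    ⟨h.1.smul _, wt_self h.2.1, n1.wt h.2.1 h.2.2.1, wt_comm hc h.2.2.2⟩
  have s1 : ∀ k v, E k v → E (rf 1 k) (c₁ ww • v) := fun k v h =>
    ⟨h.1.smul _, n1.symm.wt h.2.2.1 h.2.1, wt_self h.2.2.1, n2.wt h.2.2.1 h.2.2.2⟩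
  have s2 : ∀ k v, E k v → E (rf 2 k) (c₂ ww • v) := fun k v h =>
    ⟨h.1.smul _, wt_comm (fun x y => (hc y x).symm) h.2.1, n2.symm.wt h.2.2.2 h.2.2.1, wt_self h.2.2.2⟩
  have hE : ∀ k l u v, E k u → E l v → k ≠ l → hermForm 4 F q u v = 0 := fun k l u v hu hv e => by
    by_contra h
    exact e (Prod.ext (hi (by_contra fun e => h (perp_of_eig hu.2.1 hv.2.1 (hp _) e))) (Prod.ext
      (hi (by_contra fun e => h (perp_of_eig hu.2.2.1 hv.2.2.1 (hp _) e)))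
      (hi (by_contra fun e => h (perp_of_eig hu.2.2.2 hv.2.2.2 (hp _) e)))))
  have h2 : ∀ k, k + k ≠ 0 → χ k * χ k ≠ 1 := fun k h e =>
    h (hi (by rw [χ.map_add_eq_mul, e, χ.map_zero_eq_one]))
  have h3 : (1 : ZMod (q + 1)) + 1 ≠ 0 := by rcases hq with rfl | rfl <;> decide
  have hd : ∀ c : SU 2 F q →* SU 4 F q, c (dd ha) ^ (q + 1) = 1 := fun c => by
    rw [← map_pow, dd_pow, map_one]
  obtain ⟨k, l, m, v, a1, hv⟩ := exists_unit_wt ha (hd c₀) (hd c₁) (hd c₂) n1.comm (hc _ _) n2.comm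
    fun e => h2 1 h3 (by
      have := congrFun (congrFun (congrArg mat (h0 ((map_mul _ _ _).trans (e.trans c₀.map_one.symm)))) 0) 0
      rw [← Nat.cast_one (R := ZMod (q + 1)), AddChar.zmodChar_apply']
      simpa [mat_mul, mat_dd, mat_one] using this)
  simp only [← AddChar.zmodChar_apply' ha.pow_eq_one] at a1 hv
  have hw : ∀ w : List (Fin 3), ∃ u, E (w.foldr rf (k, l, m)) u := fun w => by
    induction w with
    | nil => exact ⟨v, hv⟩
    | cons i w ih =>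
      obtain ⟨u, hu⟩ := ih
      fin_cases i
      exacts [⟨_, s0 _ _ hu⟩, ⟨_, s1 _ _ hu⟩, ⟨_, s2 _ _ hu⟩]
  obtain ⟨e, he, u, hu⟩ : ∃ e, e + e ≠ 0 ∧ ∃ u, E (e, 0, 0) u := by
    rcases orbit_dec hq (k, l, m) fun e => a1 (by rw [← χ.map_add_eq_mul, e, χ.map_zero_eq_one]) with
      ⟨w, -, h | h⟩ | h
    · exact ⟨1, h3, h ▸ hw w⟩
    · exact ⟨-1, by rwa [← neg_add, neg_ne_zero], h ▸ hw w⟩
    · have : ∀ x : (wds.map (·.foldr rf ((k : ZMod (q + 1)), (l : ZMod (q + 1)),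
          (m : ZMod (q + 1))))).toFinset, ∃ u, E x u := fun x => by
        obtain ⟨w, -, h⟩ := List.mem_map.1 (List.mem_toFinset.1 x.2)
        exact h ▸ hw w
      choose u hu using this
      have := (Phan.ON.linearIndependent (q := q) ⟨fun x => (hu x).1, fun x y e =>
        hE _ _ _ _ (hu x) (hu y) fun e' => e (Subtype.ext e')⟩).fintype_card_le_finrank
      simp only [Fintype.card_coe, Module.finrank_fin_fun] at this
      omega
  have h1 : e ≠ 0 := fun h => he (by simp [h])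
  have hu1 := s0 _ _ hu
  have hu2 := s1 _ _ hu1
  obtain ⟨g, hg⟩ := Phan.ON.exists_su hF.out (u := fun i : Fin 3 => (ee i.castSucc : Fin 4 → F))
    (w := ![u, c₀ ww • u, c₁ ww • c₀ ww • u]) ⟨fun i => un_ee _, fun i j h => ee_perp (by simpa)⟩
    ⟨by simpa [Fin.forall_fin_succ] using ⟨hu.1, hu1.1, hu2.1⟩, by
      have p1 := hE _ _ _ _ hu hu1 (by simp [rf, h1.symm])
      have p2 := hE _ _ _ _ hu hu2 (by simp [rf, h1])
      have p3 := hE _ _ _ _ hu1 hu2 (by simp [rf, h1])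
      simp [Fin.forall_fin_succ, p1, p2, p3, perp_symm p1, perp_symm p2, perp_symm p3]⟩ (by simp)
  have k : ∀ (D : SU 4 F q) (i : Fin 4) (x : Fin 4 → F) (c : F), g • ee i = x → D • x = c • x →
      (g⁻¹ * D * g) • (ee i : Fin 4 → F) = c • ee i := fun D i x c h h' => by
    rw [mul_smul, mul_smul, h, h', su_smul_smul, ← h, inv_smul_smul]
  have hb : χ e * χ (-e) = 1 := by rw [← χ.map_add_eq_mul, add_neg_cancel, χ.map_zero_eq_one]
  have hb' : χ (-e) = χ e ^ q := mul_left_cancel₀ (left_ne_zero_of_mul_eq_one hb) (by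
    rw [hb, ← pow_succ', hp])
  simp only [E, rf, Matrix.cons_val, add_zero, zero_add, add_neg_cancel, χ.map_zero_eq_one, hb']
    at hu hu1 hu2
  rw [hb'] at hb
  exact ⟨g, χ e, hb, h2 e he,
    diag_of_eig (k _ _ _ _ (hg 0) hu.2.1) (k _ _ _ _ (hg 1) hu1.2.1) (k _ _ _ _ (hg 2) hu2.2.1) (by simp [hb]),
    diag_of_eig (k _ _ _ _ (hg 0) hu.2.2.1) (k _ _ _ _ (hg 1) hu1.2.2.1) (k _ _ _ _ (hg 2) hu2.2.2.1)
      (by simp [hb]), diag_of_eig (k _ _ _ _ (hg 0) hu.2.2.2) (k _ _ _ _ (hg 1) hu1.2.2.2)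
      (k _ _ _ _ (hg 2) hu2.2.2.2) (by simp [hb])⟩

theorem exists_theta (hq : q = 2 ∨ q = 3) {c₀ c₁ c₂ : SU 2 F q →* SU 4 F q} (n1 : Nb ha c₀ c₁)
    (n2 : Nb ha c₁ c₂) (hc : ∀ x y, c₀ x * c₂ y = c₂ y * c₀ x) (h0 : Function.Injective c₀)
    (h1 : Function.Injective c₁) (h2 : Function.Injective c₂) :
    ∃ Θ : SU 4 F q →* SU 4 F q, Function.Injective Θ ∧ ∀ x, Θ (blk 2 4 0 x) = c₀ x ∧
      Θ (blk 2 4 1 x) = c₁ x ∧ Θ (blk 2 4 2 x) = c₂ x := by
  obtain ⟨g, b, b1, b2, d0, d1, d2⟩ := exists_frame4 hq n1 n2 hc h0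
  have e1 : b ^ q ≠ b := fun e => b2 (by rw [← b1, e])
  have e2 : 1 ≠ b := fun e => b2 (by simp [← e])
  have e3 : 1 ≠ b ^ q := fun e => e2 (by simpa [← e] using b1.symm)
  have e4 : b ^ q * b ^ q ≠ 1 := fun e => e1 (by linear_combination b * e - b ^ q * b1)
  have fx : ∀ (c : SU 2 F q →* SU 4 F q) (D : SU 4 F q) (t : Fin 4 → F) (j : Fin 4),
      mat (g⁻¹ * D * g) = diagonal t → (∀ x, c x * D = D * c x) → (∀ i, i ≠ j → t i ≠ t j) →
      ∀ x, c x • g • (ee j : Fin 4 → F) = g • ee j := fun c D t j hD h ht =>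
    su2_fix_of_eigen c fun x => by
      obtain ⟨s, hs⟩ := eig_of_comm hD (g := g⁻¹ * c x * g) (by simp [mul_assoc, h, ← mul_assoc (c x)]) ht
      exact ⟨s, by rw [← su_smul_smul, ← hs, mul_smul, mul_smul, smul_inv_smul]⟩
  have th : ∀ (c : SU 2 F q →* SU 4 F q) (i : ℕ) (hi : i + 2 ≤ 4) (t : Fin 4 → F), Function.Injective c →
      mat (g⁻¹ * c (dd ha) * g) = diagonal t → t (iv i hi 0) = b →
      (∀ x, ∀ j : Fin 4, j < i ∨ i + 2 ≤ j → c x • g • (ee j : Fin 4 → F) = g • ee j) →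
      ∃ (σ : F ≃+* F) (s : F), σ a = b ∧ s * s ^ q = 1 ∧ ∀ x u hu, u 0 = s * u 1 →
        g * blk 2 4 i (dg u hu (suMapEquiv σ x)) * g⁻¹ = c x := fun c i hi t hc hD ht h => by
    have i0 := (MulAut.conj g).injective.comp (blk_injective (F := F) (q := q) hi)
    let θ := (MonoidHom.ofInjective hc).trans ((MulEquiv.subgroupCongr (range_eq_of_fix hi hc h).symm).trans
      (MonoidHom.ofInjective (f := (MulAut.conj g).toMonoidHom.comp (blk 2 4 i)) i0).symm)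
    have e : ∀ x, g * blk 2 4 i (θ x) * g⁻¹ = c x := fun x =>
      MonoidHom.apply_ofInjective_symm (f := (MulAut.conj g).toMonoidHom.comp (blk 2 4 i)) i0 _
    have e' : ∀ r s, mat (θ (dd ha)) r s = diagonal t (iv i hi r) (iv i hi s) := fun r s => by
      rw [← mat_blk_iv hi, ← hD, ← e]; simp [mul_assoc]
    have e0 : mat (θ (dd ha)) 0 0 = b := by simp [e', ht]
    obtain ⟨σ, s, s1, s2⟩ := su2_aut_diag θ fun z hz => zero_of_comm (D := θ (dd ha)) (t := ![b, b ^ q])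
      (by ext r s; fin_cases r <;> fin_cases s <;> simp [su2_entries, e0, e' 0 1, zero_pow_q hF.out])
      (by rw [← map_mul, ← map_mul]; exact congrArg θ (su2_ext (by simp [mat_mul, mat_dd, mul_comm])
        (by simp [mat_mul, mat_dd, (su2_zero_iff z).1 hz]))) e1
    exact ⟨σ, s, by simpa [e0, mat_dd] using (s2 (dd ha)).1.symm, s1, fun x u hu hu' => by
      have hs : mat (suMapEquiv σ x) = (mat x).map σ := rfl
      rw [← e, su2_ext (x := θ x) (y := dg u hu (suMapEquiv σ x))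
        (by rw [mat_dg, hs, (s2 x).1, mul_right_comm, hu, one_mul]; rfl) (by
        rw [mat_dg, hs, (s2 x).2, hu', mul_right_comm, mul_assoc s, hu, mul_one]; rfl)]⟩
  have cj : ∀ x y : SU 4 F q, g⁻¹ * (x * y * y) * g = g⁻¹ * x * g * (g⁻¹ * y * g) * (g⁻¹ * y * g) :=
    fun x y => by group
  obtain ⟨σ, s₀, a0, s0, t0⟩ := th c₀ 0 (by omega) _ h0 d0 rfl fun x j hj =>
    fx _ _ _ j d2 (hc · _) (by
      obtain rfl | rfl : j = 2 ∨ j = 3 := by omega
      all_goals simp [Fin.forall_fin_succ, e1, e2, e3, e1.symm]) x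
  obtain ⟨σ₁, s₁, a1, s1, t1⟩ := th c₁ 1 (by omega) _ h1 d1 rfl fun x j hj => by
    obtain rfl | rfl : j = 0 ∨ j = 3 := by omega
    · refine fx _ _ _ 0 (by rw [cj, mat_mul, mat_mul, d1, d2, diagonal_mul_diagonal,
        diagonal_mul_diagonal]) n2.comm_sq ?_ x
      simp [Fin.forall_fin_succ, e2.symm, mul_comm (b ^ q), b1, e4]
    · refine fx _ _ _ 3 (by rw [cj, mat_mul, mat_mul, d1, d0, diagonal_mul_diagonal,
        diagonal_mul_diagonal]) n1.symm.comm_sq ?_ x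
      simp [Fin.forall_fin_succ, e3.symm, b1, b2]
  obtain ⟨σ₂, s₂, a2, s2, t2⟩ := th c₂ 2 (by omega) _ h2 d2 rfl fun x j hj =>
    fx _ _ _ j d0 (fun x => (hc _ x).symm) (by
      obtain rfl | rfl : j = 0 ∨ j = 1 := by omega
      all_goals simp [Fin.forall_fin_succ, e1, e2, e3, e1.symm]) x
  have ha' : a ^ q ≠ a := fun e => e1 (by rw [← a0, ← map_pow, e])
  obtain rfl := aut_ext hq ha' (a1.trans a0.symm)
  obtain rfl := aut_ext hq ha' (a2.trans a0.symm)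
  have ht : ∀ i, ![s₀ * s₁ * s₂, s₁ * s₂, s₂, 1] i * ![s₀ * s₁ * s₂, s₁ * s₂, s₂, 1] i ^ q = 1 := by
    simp [Fin.forall_fin_succ, mul_pow, mul_mul_mul_comm _ s₂, mul_mul_mul_comm _ s₁, s0, s1, s2]
  refine ⟨(MulAut.conj g).toMonoidHom.comp ((dg _ ht).comp (suMapEquiv σ₂).toMonoidHom),
    (MulAut.conj g).injective.comp ((dg_injective _ ht).comp (suMapEquiv σ₂).injective), fun x =>
    ⟨?_, ?_, ?_⟩⟩ <;> simp only [MonoidHom.comp_apply, MulEquiv.coe_toMonoidHom, MulAut.conj_apply] <;>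
    rw [blk_eq (by omega), map_emb, dg_emb, ← blk_eq]
  exacts [t0 x _ _ (mul_assoc _ _ _), t1 x _ _ rfl, t2 x _ _ (mul_one _).symm]

end CfsgLib.PhanU
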