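import Mathlib
import Cfsg.Agent.Lib.PhanU.Frame4
import Cfsg.Agent.Lib.Unitary.SU32
import Cfsg.Agent.Lib.Phan.Chain

/-!
# Rank three subgroups of weak Phan systems, `q ≤ 3`
-/

set_option autoImplicit false

namespace CfsgLib.PhanU

open Cfsg CfsgLib.Unitary Matrix

variable {F : Type*} [Field F] {q : ℕ} [Fintype F] [hF : Fact (Fintype.card F = q ^ 2)]
  {G : Type*} [Group G]

theorem nb_of_lift {a : F} (ha : IsPrimitiveRoot a (q + 1)) {g : SU 4 F q →* G}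
    (hk : g.ker ≤ Subgroup.center _) {ψ : SU 3 F q →* G} {c c' : SU 2 F q →* SU 4 F q}
    (h : ∀ x, g (c x) = ψ (blk 2 3 0 x)) (h' : ∀ x, g (c' x) = ψ (blk 2 3 1 x)) : Nb ha c c' :=
  ⟨fun x => mul_inv_eq_iff_eq_mul.1 (lift_unique (by omega) hk
    (u := (MulAut.conj (c' (dd ha))).toMonoidHom.comp c) (u' := c.comp (tw ha)) (fun x => by
      simpa [h, h', mul_inv_eq_iff_eq_mul] using congrArg ψ (low_dd ha x)) x),
  fun x => mul_inv_eq_iff_eq_mul.1 (lift_unique (by omega) hk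
    (u := (MulAut.conj (c (dd ha))).toMonoidHom.comp c') (u' := c'.comp (tw ha)) (fun x => by
      simpa [h, h', mul_inv_eq_iff_eq_mul] using congrArg ψ (up_dd ha x)) x)⟩

theorem exists_eta (hq : q = 2 ∨ q = 3) {φ φ' : SU 3 F q →* G} {V V' A B C : Subgroup G}
    (h : Std φ V A B) (h' : Std φ' V' B C) (e : ∀ z, φ' (blk 2 3 0 z) = φ (blk 2 3 1 z))
    (hc : ∀ x ∈ A, ∀ y ∈ C, x * y = y * x) (g : SU 4 F q →* G) (hr : g.range = V ⊔ V') :
    ∃ η : SU 4 F q →* G, η.ker ≤ Subgroup.center _ ∧ η.range = V ⊔ V' ∧ ∀ x,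
      η (blk 2 4 0 x) = φ (blk 2 3 0 x) ∧ η (blk 2 4 1 x) = φ (blk 2 3 1 x) ∧
      η (blk 2 4 2 x) = φ' (blk 2 3 1 x) := by
  have m : ∀ x, φ x ∈ g.range := fun x => hr ▸ Subgroup.mem_sup_left (h.range ▸ ⟨x, rfl⟩)
  have m' : ∀ x, φ' x ∈ g.range := fun x => hr ▸ Subgroup.mem_sup_right (h'.range ▸ ⟨x, rfl⟩)
  have i0 := inj_blk_of_ker (m := 2) (i := 0) (by omega) (by omega) (by omega) h.ker
  have i1 := inj_blk_of_ker (m := 2) (i := 1) (by omega) (by omega) (by omega) h.ker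
  have i2 := inj_blk_of_ker (m := 2) (i := 1) (by omega) (by omega) (by omega) h'.ker
  have hk : g.ker ≤ Subgroup.center _ :=
    (su_le_center_or_eq_top hF.out (by omega) (by omega) _).resolve_right fun e => by
      obtain ⟨y, hy⟩ := m (blk 2 3 0 ww)
      have := i0 (a₁ := ww) (a₂ := 1) (hy.symm.trans ((show g y = 1 from
        (e ▸ Subgroup.mem_top y : y ∈ g.ker)).trans (map_one _).symm))
      simpa [ww, mat_mk2, mat_one] using congrFun (congrFun (congrArg mat this) 0) 0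
  obtain ⟨c₀, h0⟩ := exists_lift hq hk (φ.comp (blk 2 3 0)) fun x => m _
  obtain ⟨c₁, h1⟩ := exists_lift hq hk (φ.comp (blk 2 3 1)) fun x => m _
  obtain ⟨c₂, h2⟩ := exists_lift hq hk (φ'.comp (blk 2 3 1)) fun x => m' _
  obtain ⟨a, ha⟩ := exists_prim (F := F) (q := q)
  obtain ⟨Θ, hi, hΘ⟩ := exists_theta hq (nb_of_lift ha hk h0 h1)
    (nb_of_lift ha hk (fun x => (h1 x).trans (e x).symm) h2) (fun x y => (mul_inv_eq_iff_eq_mul.1
      (lift_unique (by omega) hk (u := (MulAut.conj (c₂ y)).toMonoidHom.comp c₀) (fun x => by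
        simp [h0, h2, ← hc _ (h.up_mem x) _ (h'.low_mem y)]) x)).symm)
    (fun x y e => i0 (by rw [← h0, e, h0])) (fun x y e => i1 (by rw [← h1, e, h1]))
    fun x y e => i2 (by rw [← h2, e, h2])
  refine ⟨g.comp Θ, fun x hx => Subgroup.mem_center_iff.2 fun y => hi ?_, ?_, fun x => by
    simp [hΘ, h0, h1, h2]⟩
  · rw [map_mul, map_mul]; exact Subgroup.mem_center_iff.1 (hk hx) _
  · rw [MonoidHom.range_comp, MonoidHom.range_eq_top.2 (Finite.injective_iff_surjective.1 hi),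
      ← MonoidHom.range_eq_map, hr]

theorem mono_mem {K : Subgroup (SU 3 F q)} (h0 : ∀ x, blk 2 3 0 x ∈ K) (h1 : ∀ x, blk 2 3 1 x ∈ K)
    {g : SU 3 F q} {j k : Fin 3} {c : F} (h : g • (ee j : Fin 3 → F) = c • ee k) : g ∈ K := by
  have hq := zero_pow_q hF.out
  have T : ∀ (k : Fin 3) (c : F), c * c ^ q = 1 → ∃ m ∈ K, m • (ee 2 : Fin 3 → F) = c • ee k :=
    fun k c hc => by
      fin_cases k
      · refine ⟨_, mul_mem (h0 ww) (h1 (mk2 0 c (by simp [hc]))), funext fun i => ?_⟩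
        rw [← mat_apply]
        fin_cases i <;> simp [mat_mul, mat_blk0, mat_blk1, ww, mat_mk2, hq, mul_apply, Fin.sum_univ_three]
      · refine ⟨_, h1 (mk2 0 c (by simp [hc])), funext fun i => ?_⟩
        rw [← mat_apply]
        fin_cases i <;> simp [mat_blk1, mat_mk2, hq]
      · refine ⟨_, h1 (mk2 (c ^ q) 0 (by simp [pow_q_pow_q hF.out, mul_comm _ c, hc])), funext fun i => ?_⟩
        rw [← mat_apply]
        fin_cases i <;> simp [mat_blk1, mat_mk2, pow_q_pow_q hF.out]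
  obtain ⟨m, a1, a2⟩ := T j 1 (by simp)
  obtain ⟨m', b1, b2⟩ := T k c (by
    have := (un_ee (q := q) j).smul g
    rwa [h, Un, herm_smul_left, herm_smul_right, un_ee, mul_one] at this)
  obtain ⟨x, hx⟩ := exists_blk (m := 2) (i := 0) (by omega) (g := m'⁻¹ * g * m) fun l hl => by
    rw [show l = 2 from Fin.ext (by simp; omega), mul_smul, mul_smul, a2, one_smul, h, ← b2, inv_smul_smul]
  have := mul_mem (mul_mem b1 (hx ▸ h0 x)) (inv_mem a1)
  rwa [← mul_assoc, ← mul_assoc, mul_inv_cancel, one_mul, mul_inv_cancel_right] at this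

omit hF
variable [hF : Fact (Fintype.card F = 2 ^ 2)]

theorem inv_mem_two {K : Subgroup (SU 3 F 2)} (h0 : ∀ x, blk 2 3 0 x ∈ K) (h1 : ∀ x, blk 2 3 1 x ∈ K)
    {t : SU 3 F 2} (ht : t * t = 1) : t ∈ K := by
  rcases eq_or_ne t 1 with rfl | h
  · exact one_mem _
  have h2 : (2 : F) = 0 := natCast_q hF.out
  obtain ⟨v, hv⟩ := exists_ctr ht h
  obtain ⟨k, hk⟩ : ∃ k, v k = 0 := by
    by_contra! e
    have e1 : ∀ k, v k * v k ^ 2 = 1 := fun k => by
      simpa [hF.out, pow_succ'] using FiniteField.pow_card_sub_one_eq_one _ (e k)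
    have := hv.iso h2 ht
    rw [herm_def, Fin.sum_univ_three, e1, e1, e1] at this
    exact one_ne_zero (α := F) (by linear_combination this - h2)
  exact mono_mem h0 h1 (c := 1) (k := k) ((hv.fix h2 ht ht rfl (x := ee k) (by
    simp [herm_single_left, hk])).trans (one_smul _ _).symm)

theorem su3_two_decomp (y : SU 3 F 2) : ∃ h x : SU 3 F 2, y = h * x ∧ x ^ 4 = 1 ∧
    ∃ (k : Fin 3) (c : F), h • (ee 2 : Fin 3 → F) = c • ee k := by
  have e : Classical.GF4 ≃+* F := FiniteField.ringEquivOfCardEq (SU32.hGF4.trans hF.out.symm)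
  obtain ⟨y, rfl⟩ := (suMapEquiv e).surjective y
  obtain ⟨p, x, h⟩ := SU32.exists_eq_nP_mul_qP (QuotientGroup.mk y)
  obtain ⟨c, hc⟩ := (psu_mk_eq_mk_iff SU32.hGF4 (by omega) (SU32.nSU p.toAdd.1 p.toAdd.2)
    (y * (SU32.qSU x)⁻¹)).1 (by rw [QuotientGroup.mk_mul, h]; exact (mul_inv_cancel_right _ _).symm)
  obtain ⟨k, d, hk⟩ : ∃ k d, ∀ l, SU32.nm p.toAdd.1 p.toAdd.2 l 2 = if l = k then d else 0 := by
    generalize p.toAdd.1 = i, p.toAdd.2 = j
    revert i j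
    decide +kernel
  refine ⟨suMapEquiv e (y * (SU32.qSU x)⁻¹), suMapEquiv e (SU32.qSU x), by simp, by
    rw [← map_pow, ← map_pow, show x ^ 4 = 1 by clear hc h; revert x; decide, map_one, map_one], k, e (c * d),
    funext fun l => ?_⟩
  rw [← mat_apply]
  change e ((y * (SU32.qSU x)⁻¹).1.1 l 2) = _
  rw [hc, Matrix.smul_apply, show (SU32.nSU _ _).1.1 l 2 = _ from hk l]
  by_cases h : l = k <;> simp [h]

theorem eq_blk_two {i : ℕ} (hi : i + 3 ≤ 4) {f : SU 3 F 2 →* SU 4 F 2}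
    (h0 : ∀ x, f (blk 2 3 0 x) = blk 2 4 i x) (h1 : ∀ x, f (blk 2 3 1 x) = blk 2 4 (i + 1) x)
    (y : SU 3 F 2) : f y = blk 3 4 i y := by
  have k0 : ∀ x, blk 2 3 0 x ∈ f.eqLocus (blk 3 4 i) := fun x => (h0 x).trans (blk_blk (i := 0) (by omega) hi x).symm
  have k1 : ∀ x, blk 2 3 1 x ∈ f.eqLocus (blk 3 4 i) := fun x => (h1 x).trans (blk_blk (by omega) hi x).symm
  obtain ⟨h, x, rfl, hx, k, c, hc⟩ := su3_two_decomp y
  refine mul_mem (mono_mem k0 k1 hc) (show x ∈ f.eqLocus (blk 3 4 i) from ?_)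
  obtain ⟨a, ha⟩ := exists_prim (F := F) (q := 2)
  let ζ : SU 3 F 2 := scalarSU a ha.pow_eq_one ha.pow_eq_one
  have hζ : ∀ v : Fin 3 → F, ζ • v = a • v := fun v => by simp [su_smul_def, ζ, scalarSU, coe_mkSU, smul_mulVec]
  obtain ⟨x', hx'⟩ := exists_blk hi (g := f x) fun j hj => by
    have e : blk 3 4 i ζ • f x • (ee j : Fin 4 → F) = f x • ee j := by
      have e : f ζ = blk 3 4 i ζ := mono_mem k0 k1 (hζ (ee 0))
      rw [← e, ← mul_smul, ← map_mul, show ζ * x = x * ζ from su_ext fun v => by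
        simp only [mul_smul, hζ, su_smul_smul], map_mul, mul_smul, e, blk_ee _ hj]
    obtain ⟨s, hs⟩ : ∃ s : F, f x • (ee j : Fin 4 → F) = s • ee j := ⟨_, funext fun l => by
      rcases eq_or_ne l j with rfl | hl
      · simp; rfl
      have := Phan.emb_smul_apply (Phan.seg 3 4 i hi) ζ (f x • (ee j : Fin 4 → F)) ⟨l - i, by omega⟩
      erw [blk_eq_phan] at this
      rw [e, hζ, Pi.smul_apply, Function.comp_apply, show Phan.seg 3 4 i hi ⟨l - i, by omega⟩ = l from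
        Fin.ext (by simp; omega), eq_comm, smul_eq_mul, mul_left_eq_self₀] at this
      simp [hl, this.resolve_left (ha.ne_one (by omega))]⟩
    have e1 := (un_ee (q := 2) j).smul (f x)
    rw [hs, Un, herm_smul_left, herm_smul_right, un_ee, mul_one] at e1
    have e2 : f (x ^ 4) • (ee j : Fin 4 → F) = (s * (s * s ^ 2)) • ee j := by
      simp only [pow_succ, pow_zero, one_mul, map_mul, mul_smul, hs, su_smul_smul]
    rw [hx, map_one, one_smul, e1, mul_one] at e2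
    rw [hs, ← e2]
  have c1 : ∀ t, t * t = 1 → t ∈ Subgroup.centralizer {x⁻¹ * x'} := fun t ht => by
    have e1 : f t = _ := inv_mem_two k0 k1 ht
    have e2 : f (x * t * x⁻¹) = _ := inv_mem_two k0 k1 (by rw [conj_mul, ht]; simp)
    rw [map_mul, map_mul, map_inv, e1, ← hx', ← map_mul, ← map_inv, ← map_mul] at e2
    have := blk_injective hi e2
    rw [Subgroup.mem_centralizer_singleton_iff, mul_assoc, ← inv_mul_cancel_right (x' * t) x', this]
    group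
  have c2 : ∀ j z, x⁻¹ * x' * blk 2 3 j z = blk 2 3 j z * (x⁻¹ * x') := fun j z =>
    (Subgroup.mem_centralizer_singleton_iff.1 (su2_ind ((Subgroup.centralizer {x⁻¹ * x'}).comap
      (blk 2 3 j)) (fun t ht => c1 _ (by rw [← map_mul, ← sq, ht, map_one])) z)).symm
  have c3 : x⁻¹ * x' ∈ Subgroup.center _ := by
    generalize x⁻¹ * x' = z at c2
    have e1 := congrFun (congrFun (congrArg mat (c2 0 ww)) 0) 1
    have e2 := congrFun (congrFun (congrArg mat (c2 1 ww)) 1) 2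
    simp [mat_mul, mat_blk0, mat_blk1, ww, mat_mk2, mul_apply, Fin.sum_univ_three] at e1 e2
    have a1 : a ≠ 1 := ha.ne_one (by omega)
    have a2 : a ^ 2 ≠ 1 := ha.pow_ne_one_of_pos_of_lt (by omega) (by omega)
    have a3 : a ^ 2 ≠ a := fun e => a1 (mul_left_cancel₀ (ha.ne_zero (by omega)) (by rw [← sq, e, mul_one]))
    refine (mem_center_SU_iff hF.out (by omega)).2 ⟨mat z 0 0, Matrix.ext fun r s => ?_⟩
    rcases eq_or_ne r s with rfl | h
    · rw [show z.1.1 = mat z from rfl]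
      fin_cases r <;> simp [← e2, ← e1]
    · have : mat z r s = 0 := zero_of_comm (t := ![a, a ^ 2, 1]) (by
        ext r s; rw [mat_blk0]; fin_cases r <;> fin_cases s <;> simp [mat_dd]) (c2 0 (dd ha)) (by
        revert r s; simp [Fin.forall_fin_succ, a1, a2, a3, a1.symm, a2.symm, a3.symm])
      simpa [h, mat] using this
  have e1 := center_pow (by omega) c3
  have e2 := Commute.mul_pow (Subgroup.mem_center_iff.1 c3 x) 4
  rw [mul_inv_cancel_left, hx, one_mul, pow_succ (_ * _), show (x⁻¹ * x') ^ 3 = 1 from e1, one_mul,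
    blk_injective hi (a₁ := x' ^ 4) (a₂ := 1) (by rw [map_pow, hx', ← map_pow, hx, map_one, map_one]),
    eq_comm, inv_mul_eq_one] at e2
  exact hx'.symm.trans (by rw [e2])

theorem exists_eta_two {φ φ' : SU 3 F 2 →* G} {V V' A B C : Subgroup G}
    (h : Std φ V A B) (h' : Std φ' V' B C) (e : ∀ z, φ' (blk 2 3 0 z) = φ (blk 2 3 1 z))
    (hc : ∀ x ∈ A, ∀ y ∈ C, x * y = y * x) (g : SU 4 F 2 →* G) (hr : g.range = V ⊔ V') :
    ∃ η : SU 4 F 2 →* G, ∀ x, η (blk 3 4 0 x) = φ x ∧ η (blk 3 4 1 x) = φ' x := by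
  obtain ⟨η, h1, h2, h3⟩ := exists_eta (Or.inl rfl) h h' e hc g hr
  have hi := injective_of_ker_two h1
  have key : ∀ (ψ : SU 3 F 2 →* G) (i : ℕ), i + 3 ≤ 4 → (∀ x, ψ x ∈ η.range) →
      (∀ x, η (blk 2 4 i x) = ψ (blk 2 3 0 x)) → (∀ x, η (blk 2 4 (i + 1) x) = ψ (blk 2 3 1 x)) →
      ∀ x, η (blk 3 4 i x) = ψ x := fun ψ i hi' m a0 a1 x => by
    let f := (MonoidHom.ofInjective hi).symm.toMonoidHom.comp (ψ.codRestrict _ m)
    have hf : ∀ x, η (f x) = ψ x := fun x => MonoidHom.apply_ofInjective_symm hi _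
    rw [← eq_blk_two hi' (f := f) (fun x => hi (by rw [hf, a0])) (fun x => hi (by rw [hf, a1])), hf]
  exact ⟨η, fun x => ⟨key φ 0 (by omega) (fun x => h2 ▸ Subgroup.mem_sup_left (h.range ▸ ⟨x, rfl⟩))
    (fun x => (h3 x).1) (fun x => (h3 x).2.1) x, key φ' 1 (by omega)
    (fun x => h2 ▸ Subgroup.mem_sup_right (h'.range ▸ ⟨x, rfl⟩)) (fun x => (h3 x).2.1.trans (e x).symm)
    (fun x => (h3 x).2.2) x⟩⟩

theorem exists_hom_two (k : ℕ) (U V : ℕ → Subgroup G)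
    (hs : ∀ i ≤ k + 1, ∃ ψ : SU 3 F 2 →* G, Std ψ (V i) (U i) (U (i + 1)))
    (hc : ∀ i, i ≤ k → ∀ x ∈ U i, ∀ y ∈ U (i + 2), x * y = y * x)
    (h4 : ∀ i ≤ k, ∃ g : SU 4 F 2 →* G, g.range = V i ⊔ V (i + 1))
    (h5 : ∀ i j, i + 2 ≤ j → j ≤ k + 1 → ∀ x ∈ U i, ∀ y ∈ V j, x * y = y * x)
    (h6 : ∀ i j, i + 3 ≤ j → j ≤ k + 2 → ∀ x ∈ U j, ∀ y ∈ V i, x * y = y * x)
    (h7 : ∀ i j, i + 3 ≤ j → j ≤ k + 1 → ∀ x ∈ V i, ∀ y ∈ V j, x * y = y * x) :
    ∃ Φ : SU (k + 4) F 2 →* G, ∀ i ≤ k + 1, V i ≤ Φ.range := by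
  obtain ⟨φ, h1, h2⟩ := exists_chain (k + 1) U V hs fun i hi => hc i (by omega)
  have : ∀ i, ∃ η : SU 4 F 2 →* G, i ≤ k → ∀ x, η (blk 3 4 0 x) = φ i x ∧ η (blk 3 4 1 x) = φ (i + 1) x :=
    fun i => by
      by_cases hi : i ≤ k
      · obtain ⟨g, hg⟩ := h4 i hi
        simpa [hi] using exists_eta_two (h1 i (by omega)) (h1 (i + 1) (by omega)) (h2 i (by omega))
          (hc i hi) g hg
      · exact ⟨1, fun h => absurd h hi⟩
  choose η hη using this
  have m : ∀ i ≤ k + 1, ∀ x, φ i x ∈ V i := fun i hi x => (h1 i hi).range ▸ ⟨x, rfl⟩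
  obtain ⟨Φ, hΦ⟩ := Phan.chain4 hF.out (n := k + 4) (by omega) η (fun i hi a => by
      rw [blk_eq_phan, blk_eq_phan, (hη i (by omega) a).2, (hη (i + 1) (by omega) a).1])
    (fun i j hij hj a b => by
      rw [blk_eq_phan, blk_eq_phan, ← blk_blk (i := 0) (j := 0) (m := 3) (by omega) (by omega),
        (hη i (by omega) _).1, (hη j (by omega) _).2]
      exact h5 i (j + 1) (by omega) (by omega) _ ((h1 i (by omega)).up_mem a) _ (m _ (by omega) b))
    (fun i j hij hj a b => by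
      rw [blk_eq_phan, blk_eq_phan, ← blk_blk (i := 1) (j := 1) (m := 3) (by omega) (by omega),
        (hη i (by omega) _).1, (hη j (by omega) _).2]
      exact (h6 i (j + 2) (by omega) (by omega) _ ((h1 (j + 1) (by omega)).low_mem b) _
        (m _ (by omega) a)).symm) fun i j hij hj a b => by
      rw [blk_eq_phan, blk_eq_phan, (hη i (by omega) _).1, (hη j (by omega) _).2]
      exact h7 i (j + 1) (by omega) (by omega) _ (m _ (by omega) a) _ (m _ (by omega) b)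
  refine ⟨Φ, fun i hi => ?_⟩
  rw [← (h1 i hi).range]
  rintro _ ⟨x, rfl⟩
  rcases i with _ | i
  · exact ⟨_, (hΦ 0 (by omega) _).trans (hη 0 (by omega) x).1⟩
  · exact ⟨_, (hΦ i (by omega) _).trans (hη i (by omega) x).2⟩

omit hF in
theorem exists_hom_three [hF : Fact (Fintype.card F = 3 ^ 2)] (k : ℕ) (U V : ℕ → Subgroup G)
    (hs : ∀ i ≤ k + 1, ∃ ψ : SU 3 F 3 →* G, Std ψ (V i) (U i) (U (i + 1)))
    (hc : ∀ i j, i + 2 ≤ j → j ≤ k + 2 → ∀ x ∈ U i, ∀ y ∈ U j, x * y = y * x)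
    (h4 : ∀ i ≤ k, ∃ g : SU 4 F 3 →* G, g.range = V i ⊔ V (i + 1)) :
    ∃ Φ : SU (k + 4) F 3 →* G, ∀ i ≤ k + 1, V i ≤ Φ.range := by
  obtain ⟨φ, h1, h2⟩ := exists_chain (k + 1) U V hs fun i hi => hc i _ le_rfl (by omega)
  let χ : ℕ → SU 2 F 3 →* G := fun i =>
    Nat.casesOn i ((φ 0).comp (blk 2 3 0)) fun j => (φ j).comp (blk 2 3 1)
  have hχ : ∀ i ≤ k + 2, ∀ x, χ i x ∈ U i := fun i hi => by
    cases i with
    | zero => exact (h1 0 (by omega)).up_mem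
    | succ i => exact (h1 i (by omega)).low_mem
  have : ∀ i, ∃ η : SU 4 F 3 →* G, i ≤ k → η.range = V i ⊔ V (i + 1) ∧ ∀ x, η (blk 2 4 0 x) = χ i x ∧
      η (blk 2 4 1 x) = χ (i + 1) x ∧ η (blk 2 4 2 x) = χ (i + 2) x := fun i => by
    by_cases hi : i ≤ k
    · obtain ⟨g, hg⟩ := h4 i hi
      obtain ⟨η, -, a1, a2⟩ := exists_eta (Or.inr rfl) (h1 i (by omega)) (h1 (i + 1) (by omega))
        (h2 i (by omega)) (hc i _ le_rfl (by omega)) g hg
      refine ⟨η, fun _ => ⟨a1, fun x => ⟨(a2 x).1.trans ?_, (a2 x).2⟩⟩⟩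
      cases i with
      | zero => rfl
      | succ i => exact h2 i (by omega) x
    · exact ⟨1, fun h => absurd h hi⟩
  choose η hη using this
  obtain ⟨Φ, hΦ⟩ := Phan.chain4' hF.out (n := k + 4) (by omega) (by omega) χ η (fun i hi t ht a => by
      rw [blk_eq_phan]
      obtain rfl | rfl | rfl : t = 0 ∨ t = 1 ∨ t = 2 := by omega
      exacts [((hη i (by omega)).2 a).1, ((hη i (by omega)).2 a).2.1, ((hη i (by omega)).2 a).2.2])
    fun i j hij hj a b => hc i j hij (by omega) _ (hχ i (by omega) a) _ (hχ j (by omega) b)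
  have : ∀ i ≤ k, V i ⊔ V (i + 1) ≤ Φ.range := fun i hi => by
    rw [← (hη i hi).1]
    rintro _ ⟨x, rfl⟩
    exact ⟨_, hΦ i (by omega) x⟩
  refine ⟨Φ, fun i hi => ?_⟩
  rcases i with _ | i
  exacts [le_sup_left.trans (this 0 (by omega)), le_sup_right.trans (this i (by omega))]

theorem exists_range_eq {H : Type*} [Group H] {K : Subgroup G} (h : ∃ g : H →* K, Function.Surjective g) :
    ∃ g : H →* G, g.range = K := by
  obtain ⟨g, hg⟩ := h
  exact ⟨K.subtype.comp g, by rw [MonoidHom.range_comp, MonoidHom.range_eq_top.2 hg,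
    ← MonoidHom.range_eq_map, Subgroup.range_subtype]⟩

omit hF in
theorem surj_of_le {H : Type*} [Group H] [Fact (Fintype.card F = q ^ 2)] {k : ℕ}
    {U : Fin (k + 2) → Subgroup G} {V : Fin (k + 2) → Fin (k + 2) → Subgroup G}
    (h2 : ∀ i j : Fin (k + 2), (i : ℕ) + 1 = j → IsStandardUnitaryPair (V i j) (U i) (U j) F q)
    (hgen : (⨆ i, U i) ⊔ (⨆ (i : Fin (k + 2)) (j : Fin (k + 2)) (_ : (i : ℕ) + 1 = j), V i j) = ⊤)
    {Φ : H →* G} (h : ∀ i (hi : i + 1 < k + 2), V ⟨i, by omega⟩ ⟨i + 1, hi⟩ ≤ Φ.range) :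
    Function.Surjective Φ := by
  refine MonoidHom.range_eq_top.1 (top_le_iff.1 (hgen ▸ sup_le (iSup_le fun ⟨i, hi⟩ => ?_)
    (iSup_le fun ⟨i, hi⟩ => iSup_le fun ⟨j, hj⟩ => iSup_le fun e => ?_)))
  · rcases i with _ | i
    · obtain ⟨ψ, hψ⟩ := std_of_pair (h2 ⟨0, hi⟩ ⟨1, by omega⟩ rfl)
      refine le_trans ?_ (h 0 (by omega))
      rw [← hψ.up, ← hψ.range]
      exact fun _ ⟨x, hx⟩ => ⟨_, hx⟩
    · obtain ⟨ψ, hψ⟩ := std_of_pair (h2 ⟨i, by omega⟩ ⟨i + 1, hi⟩ rfl)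
      refine le_trans ?_ (h i hi)
      rw [← hψ.low, ← hψ.range]
      exact fun _ ⟨x, hx⟩ => ⟨_, hx⟩
  · obtain rfl : i + 1 = j := e
    exact h i hj

end CfsgLib.PhanU
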